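import Groth.Agent.S3034
import Groth.Agent.GrpQuotLib.KerGrp
import Groth.Agent.MonoFibre.KernelFibre
import Groth.Agent.GrpSchLib.Dimension
import Groth.Agent.RatliffLib.Equidim
import Groth.Agent.FibreDepth.Scheme

/-!
# Quasi-compact homomorphisms of algebraic groups over a field
-/

set_option autoImplicit false
set_option backward.isDefEq.respectTransparency.types false
set_option linter.style.haveILetI false

universe u

open CategoryTheory CategoryTheory.Limits MonoidalCategory CartesianMonoidalCategory MonObj AlgebraicGeometry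

namespace Groth.Agent.GrpHomLib

/-- A morphism from a reduced scheme factors through a closed immersion containing its range. -/
theorem exists_lift_of_range {Z T X : Scheme.{u}} [IsReduced T] (j : Z ⟶ X) [IsClosedImmersion j] (t : T ⟶ X)
    (h : Set.range t ⊆ Set.range j) : ∃ l : T ⟶ Z, l ≫ j = t := by
  haveI : IsClosedImmersion (pullback.fst t j) := MorphismProperty.pullback_fst _ _ ‹_›
  haveI : Surjective (pullback.fst t j) := ⟨fun z => by
    have : z ∈ Set.range (pullback.fst t j) := by
      rw [Scheme.Pullback.range_fst]; exact h ⟨z, rfl⟩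
    exact this⟩
  haveI := isIso_of_isClosedImmersion_of_surjective (pullback.fst t j)
  exact ⟨inv (pullback.fst t j) ≫ pullback.snd t j, by
    rw [Category.assoc, ← pullback.condition, IsIso.inv_hom_id_assoc]⟩

variable {k : Type u} [Field k] {G H : Over (Spec (CommRingCat.of k))} [GrpObj G] [GrpObj H]
  [LocallyOfFiniteType G.hom] [LocallyOfFiniteType H.hom] (u : G ⟶ H) [IsMonHom u] [QuasiCompact u.left]

/-- Factorisation with the kernel. -/
theorem exists_factor :
    ∃ (C : Over (Spec (CommRingCat.of k))) (_ : GrpObj C) (p : G ⟶ C) (i : C ⟶ H), IsMonHom p ∧ IsMonHom i ∧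
      p ≫ i = u ∧ Flat p.left ∧ Surjective p.left ∧ QuasiCompact p.left ∧ LocallyOfFiniteType C.hom ∧
      IsClosedImmersion i.left ∧ AlgGrp.IsKernel (pullback.fst u η[H]) p := by
  obtain ⟨C, hC, p, i, hp, hi, hpi, hf, hs, hlfp, hcl⟩ :=
    S3034.result k G H u (by
      haveI : Subsingleton ↥(Spec (CommRingCat.of k)) := inferInstanceAs (Subsingleton (PrimeSpectrum k))
      haveI : Subsingleton ↥(𝟙_ (Over (Spec (CommRingCat.of k)))).left := inferInstanceAs (Subsingleton (PrimeSpectrum k))
      haveI : IsIntegral (𝟙_ (Over (Spec (CommRingCat.of k)))).left := inferInstanceAs (IsIntegral (Spec (CommRingCat.of k)))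
      infer_instance)
  refine ⟨C, hC, p, i, hp, hi, hpi, hf, hs, ?_, ?_, hcl, ?_⟩
  · haveI : QuasiCompact (p.left ≫ i.left) := by rw [← Over.comp_left, hpi]; infer_instance
    exact QuasiCompact.of_comp p.left i.left
  · rw [← Over.w i]; infer_instance
  · haveI : Mono i := (Over.forget _).mono_of_mono_map (show Mono i.left by infer_instance)
    show IsPullback (pullback.fst u η[H]) (toUnit _) p η[C]
    rw [toUnit_unique (toUnit _) (pullback.snd u η[H])]
    refine IsPullback.of_isLimit' ⟨(cancel_mono i).1 ?_⟩ (PullbackCone.IsLimit.mk _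
      (fun s => pullback.lift s.fst s.snd ?_) (fun _ => pullback.lift_fst _ _ _) (fun _ => pullback.lift_snd _ _ _)
      (fun s m h1 h2 => pullback.hom_ext (h1.trans (pullback.lift_fst _ _ _).symm) (h2.trans (pullback.lift_snd _ _ _).symm)))
    · rw [Category.assoc, Category.assoc, hpi, IsMonHom.one_hom i]; exact pullback.condition
    · rw [← hpi, ← Category.assoc, s.condition, Category.assoc, IsMonHom.one_hom i]

omit [GrpObj G] [LocallyOfFiniteType G.hom] [LocallyOfFiniteType H.hom] [IsMonHom u] [QuasiCompact u.left] in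
/-- The kernel as a scheme over the base. -/
theorem kernel_hom_iff (P : MorphismProperty Scheme.{u}) [P.RespectsIso] :
    P (pullback u η[H]).hom ↔ P (pullback.snd u.left η[H].left) := by
  have h := GrpQuotLib.isPullback_left (IsPullback.of_hasPullback u η[H])
  have e : (pullback u η[H]).hom = h.isoPullback.hom ≫ pullback.snd u.left η[H].left := by
    rw [h.isoPullback_hom_snd, ← Over.w (pullback.snd u η[H])]
    exact Category.comp_id _
  rw [e]
  exact P.cancel_left_of_respectsIso _ _

/-- Properties of the kernel pass to the homomorphism. -/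
theorem of_kernel (P : MorphismProperty Scheme.{u}) [P.IsStableUnderBaseChange] [P.IsStableUnderComposition]
    [P.DescendsAlong (@Surjective ⊓ @Flat ⊓ @QuasiCompact)]
    (hcl : ∀ {X Y : Scheme.{u}} (j : X ⟶ Y), IsClosedImmersion j → P j)
    (h : P (pullback.snd u.left η[H].left)) : P u.left := by
  obtain ⟨C, hC, p, i, hp, hi, hpi, hf, hs, hqc, hlft, hci, hker⟩ := exists_factor u
  let N := pullback u η[H]
  have h1 : P (fst G N).left := MorphismProperty.of_isPullback
    (IsPullback.of_hasPullback G.hom N.hom).flip ((kernel_hom_iff u P).mpr h)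
  have h2 : P p.left := MorphismProperty.of_isPullback_of_descendsAlong (P := P)
    (Q := @Surjective ⊓ @Flat ⊓ @QuasiCompact)
    (MonoFibre.KernelFibre.isPullback_torsor p (pullback.fst u η[H]) hker).flip ⟨⟨hs, hf⟩, hqc⟩ h1
  rw [← hpi, Over.comp_left]
  exact MorphismProperty.comp_mem _ _ _ h2 (hcl _ hci)

/-- The image is closed. -/
theorem isClosed_range : IsClosed (Set.range u.left) := by
  obtain ⟨C, hC, p, i, hp, hi, hpi, hf, hs, hqc, hlft, hci, hker⟩ := exists_factor u
  rw [← hpi, Over.comp_left, Scheme.Hom.comp_base, TopCat.coe_comp,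
    Set.range_comp, Set.range_eq_univ.mpr p.left.surjective, Set.image_univ]
  exact i.left.isClosedEmbedding.isClosed_range

/-- The dimension formula. -/
theorem dim_eq : topologicalKrullDim G.left =
    topologicalKrullDim (Set.range u.left) + topologicalKrullDim ↥(pullback u.left η[H].left) := by
  obtain ⟨C, hC, p, i, hp, hi, hpi, hf, hs, hqc, hlft, hci, hker⟩ := exists_factor u
  let N := pullback u η[H]
  obtain ⟨hN, hNhom⟩ := GrpQuotLib.exists_grpObj_kernel u
  letI : GrpObj N := hN
  let a : N ⟶ G := pullback.fst u η[H]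
  haveI : IsClosedImmersion η[H].left := GrpSchLib.isClosedImmersion_unit
  haveI : IsClosedImmersion η[C].left := GrpSchLib.isClosedImmersion_unit
  haveI : IsClosedImmersion a.left := MorphismProperty.of_isPullback
    (GrpQuotLib.isPullback_left (IsPullback.of_hasPullback u η[H])).flip ‹IsClosedImmersion η[H].left›
  haveI : LocallyOfFiniteType N.hom := by rw [← Over.w a]; infer_instance
  haveI : IsLocallyNoetherian G.left := LocallyOfFiniteType.isLocallyNoetherian G.hom
  haveI : IsLocallyNoetherian C.left := LocallyOfFiniteType.isLocallyNoetherian C.hom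
  let pt : ↥(Spec (CommRingCat.of k)) := IsLocalRing.closedPoint k
  let y : C.left := p.left (η[G].left pt)
  have hy : y = η[C].left pt := by
    show p.left (η[G].left pt) = _
    rw [← Scheme.Hom.comp_apply, ← Over.comp_left, IsMonHom.one_hom p]
  have hrange : Set.range η[C].left = {y} := by
    rw [hy]
    refine Set.eq_singleton_iff_unique_mem.mpr ⟨⟨pt, rfl⟩, ?_⟩
    rintro _ ⟨z, rfl⟩
    exact congrArg η[C].left (Subsingleton.elim (α := PrimeSpectrum k) z pt)
  haveI : IsClosedImmersion (C.left.fromSpecResidueField y) :=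
    isClosed_singleton_iff_isClosedImmersion.mp (hrange ▸ η[C].left.isClosedEmbedding.isClosed_range)
  haveI : IsReduced (𝟙_ (Over (Spec (CommRingCat.of k)))).left := inferInstanceAs (IsReduced (Spec (CommRingCat.of k)))
  obtain ⟨φ, hφ⟩ := exists_lift_of_range (C.left.fromSpecResidueField y) η[C].left
    (by rw [hrange, Scheme.range_fromSpecResidueField])
  obtain ⟨ψ, hψ⟩ := exists_lift_of_range η[C].left (C.left.fromSpecResidueField y)
    (by rw [hrange, Scheme.range_fromSpecResidueField])
  haveI : IsIso φ := ⟨ψ, by
      rw [← cancel_mono η[C].left, Category.assoc, hψ, hφ, Category.id_comp], by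
      rw [← cancel_mono (C.left.fromSpecResidueField y), Category.assoc, hφ, hψ, Category.id_comp]⟩
  have hsqN : IsPullback a.left (toUnit N).left p.left η[C].left := GrpQuotLib.isPullback_left hker
  have hsq : IsPullback a.left ((toUnit N).left ≫ φ) p.left (C.left.fromSpecResidueField y) :=
    hsqN.of_iso (Iso.refl _) (Iso.refl _) (asIso φ) (Iso.refl _) (by simp) (by simp) (by simp) (by simp [hφ])
  let m : N.left ⟶ p.left.fiber y := hsq.isoPullback.hom
  haveI : IsIso m := inferInstance
  let e := η[N].left pt
  have he : m e = p.left.asFiber (η[G].left pt) := by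
    apply (p.left.fiberι y).isEmbedding.injective
    rw [Scheme.Hom.fiberι_asFiber, ← Scheme.Hom.comp_apply]
    show (hsq.isoPullback.hom ≫ pullback.fst _ _) e = _
    rw [hsq.isoPullback_hom_fst]
    have : η[N] ≫ a = η[G] := hNhom.one_hom
    show a.left (η[N].left pt) = η[G].left pt
    rw [← Scheme.Hom.comp_apply, ← Over.comp_left, this]
  letI : Algebra (C.left.presheaf.stalk y) (G.left.presheaf.stalk (η[G].left pt)) :=
    (p.left.stalkMap (η[G].left pt)).hom.toAlgebra
  haveI : IsLocalHom (algebraMap (C.left.presheaf.stalk y) (G.left.presheaf.stalk (η[G].left pt))) :=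
    inferInstanceAs (IsLocalHom (p.left.stalkMap (η[G].left pt)).hom)
  haveI : Module.Flat (C.left.presheaf.stalk y) (G.left.presheaf.stalk (η[G].left pt)) :=
    Flat.stalkMap p.left (η[G].left pt)
  have hdim := RatliffLib.dim_flat_local (A := C.left.presheaf.stalk y) (A' := G.left.presheaf.stalk (η[G].left pt))
  have hfib := (FibreDepth.fib_stalk_self p.left (η[G].left pt)).2
  rw [show FibreDepth.fibreIdeal p.left (η[G].left pt) =
      (IsLocalRing.maximalIdeal (C.left.presheaf.stalk y)).map (algebraMap _ (G.left.presheaf.stalk (η[G].left pt)))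
      from rfl, smul_eq_mul, Ideal.mul_top, Module.supportDim_quotient_eq_ringKrullDim] at hfib
  rw [← hfib, ← he] at hdim
  rw [← ringKrullDim_eq_of_ringEquiv (asIso (m.stalkMap e)).commRingCatIsoToRingEquiv.symm] at hdim
  rw [GrpSchLib.ringKrullDim_stalk_eq_topologicalKrullDim (G := G) _ GrpSchLib.isClosed_unitPt,
    GrpSchLib.ringKrullDim_stalk_eq_topologicalKrullDim (G := N) e GrpSchLib.isClosed_unitPt,
    show C.left.presheaf.stalk y = C.left.presheaf.stalk (η[C].left pt) by rw [hy],
    GrpSchLib.ringKrullDim_stalk_eq_topologicalKrullDim (G := C) _ GrpSchLib.isClosed_unitPt] at hdim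
  rw [hdim]
  have hr : Set.range u.left = Set.range i.left := by
    rw [← hpi, Over.comp_left, Scheme.Hom.comp_base, TopCat.coe_comp,
      Set.range_comp, Set.range_eq_univ.mpr p.left.surjective, Set.image_univ]
  congr 1
  · rw [hr]
    exact IsHomeomorph.topologicalKrullDim_eq _ i.left.isEmbedding.toHomeomorph.isHomeomorph
  · exact IsHomeomorph.topologicalKrullDim_eq _
      (Scheme.homeoOfIso (GrpQuotLib.isPullback_left (IsPullback.of_hasPullback u η[H])).isoPullback).isHomeomorph

end Groth.Agent.GrpHomLib
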