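import Groth.Agent.GrpHomLib.Field
import Groth.Agent.GrpSchLib.Separated
import Groth.Agent.FpqcDesc.Basic

/-!
# Quasi-compact homomorphisms of groups over an Artinian local ring
-/

set_option autoImplicit false
set_option backward.isDefEq.respectTransparency.types false
set_option linter.style.haveILetI false

universe u

open CategoryTheory CategoryTheory.Limits MonoidalCategory CartesianMonoidalCategory MonObj AlgebraicGeometry

namespace Groth.Agent.GrpHomLib

variable {A : Type u} [CommRing A] [IsArtinianRing A] [IsLocalRing A]

local notation "S₀" => Spec (CommRingCat.of A)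
local notation "k₀" => IsLocalRing.ResidueField A

/-- The special point. -/
noncomputable def res (A : Type u) [CommRing A] [IsLocalRing A] :
    Spec (CommRingCat.of (IsLocalRing.ResidueField A)) ⟶ Spec (CommRingCat.of A) :=
  Spec.map (CommRingCat.ofHom (IsLocalRing.residue A))

omit [IsArtinianRing A] in
theorem isClosedImmersion_res : IsClosedImmersion (res A) :=
  IsClosedImmersion.spec_of_surjective _ Ideal.Quotient.mk_surjective

theorem surjective_res : Surjective (res A) :=
  ⟨fun _ => ⟨IsLocalRing.closedPoint (IsLocalRing.ResidueField A), Subsingleton.elim (α := PrimeSpectrum A) _ _⟩⟩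

/-- The special fibre is homeomorphic to the scheme. -/
theorem isHomeomorph_fst (G : Over (Spec (CommRingCat.of A))) : IsHomeomorph (pullback.fst G.hom (res A)) := by
  haveI := isClosedImmersion_res (A := A)
  haveI := surjective_res (A := A)
  haveI : IsClosedImmersion (pullback.fst G.hom (res A)) :=
    MorphismProperty.of_isPullback (IsPullback.of_hasPullback G.hom (res A)).flip ‹IsClosedImmersion (res A)›
  haveI : Surjective (pullback.fst G.hom (res A)) :=
    MorphismProperty.of_isPullback (IsPullback.of_hasPullback G.hom (res A)).flip ‹Surjective (res A)›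
  exact isHomeomorph_iff_isEmbedding_surjective.mpr
    ⟨(pullback.fst G.hom (res A)).isEmbedding, (pullback.fst G.hom (res A)).surjective⟩

/-- The unit of the special fibre. -/
theorem etaFst (G : Over (Spec (CommRingCat.of A))) [GrpObj G] :
    letI : GrpObj ((Over.pullback (res A)).obj G) := Functor.grpObjObj
    η[(Over.pullback (res A)).obj G].left ≫ pullback.fst G.hom (res A) = res A ≫ η[G].left := by
  show (Functor.LaxMonoidal.ε (Over.pullback (res A)) ≫ (Over.pullback (res A)).map η[G]).left ≫ _ = _
  rw [Over.comp_left, Category.assoc,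
    show ((Over.pullback (res A)).map η[G]).left ≫ pullback.fst G.hom (res A) =
      pullback.fst (𝟙_ (Over (Spec (CommRingCat.of A)))).hom (res A) ≫ η[G].left from pullback.lift_fst _ _ _,
    ← Category.assoc]
  congr 1
  let ε' := (Functor.LaxMonoidal.ε (Over.pullback (res A))).left
  show ε' ≫ pullback.fst (𝟙 (Spec (CommRingCat.of A))) (res A) = _
  have h1 : ε' ≫ pullback.snd (𝟙 (Spec (CommRingCat.of A))) (res A) = 𝟙 _ :=
    Over.w (Functor.LaxMonoidal.ε (Over.pullback (res A)))
  calc ε' ≫ pullback.fst (𝟙 (Spec (CommRingCat.of A))) (res A)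
      = ε' ≫ pullback.fst (𝟙 (Spec (CommRingCat.of A))) (res A) ≫ 𝟙 _ := by rw [Category.comp_id]
    _ = ε' ≫ pullback.snd (𝟙 (Spec (CommRingCat.of A))) (res A) ≫ res A := by rw [pullback.condition]
    _ = res A := by rw [← Category.assoc, h1, Category.id_comp]

/-- A group over an Artinian local ring is separated. -/
theorem isSeparated_artinian (G : Over (Spec (CommRingCat.of A))) [GrpObj G] : IsSeparated G.hom := by
  letI : GrpObj ((Over.pullback (res A)).obj G) := Functor.grpObjObj
  haveI : Subsingleton ↥(Spec (CommRingCat.of A)) := inferInstanceAs (Subsingleton (PrimeSpectrum A))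
  haveI : IsImmersion η[G].left := by
    haveI : IsImmersion (η[G].left ≫ G.hom) := by
      rw [Over.w η[G]]; exact inferInstanceAs (IsImmersion (𝟙 (Spec (CommRingCat.of A))))
    exact IsImmersion.of_comp η[G].left G.hom
  have hcl : IsClosed (Set.range η[G].left) := by
    let pt : ↥(Spec (CommRingCat.of A)) := IsLocalRing.closedPoint A
    let q := (isHomeomorph_fst G).homeomorph
    have hr : Set.range η[G].left = {η[G].left pt} := by
      refine Set.eq_singleton_iff_unique_mem.mpr ⟨⟨pt, rfl⟩, ?_⟩
      rintro _ ⟨z, rfl⟩
      exact congrArg η[G].left (Subsingleton.elim (α := PrimeSpectrum A) z pt)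
    have e : η[G].left pt = q (GrpSchLib.unitPt ((Over.pullback (res A)).obj G)) := by
      have h : (η[(Over.pullback (res A)).obj G]).left ≫ pullback.fst G.hom (res A) = res A ≫ η[G].left :=
        etaFst G
      show _ = pullback.fst G.hom (res A) (η[(Over.pullback (res A)).obj G].left _)
      rw [← Scheme.Hom.comp_apply, h, Scheme.Hom.comp_apply]
      exact congrArg η[G].left (Subsingleton.elim (α := PrimeSpectrum A) _ _)
    rw [hr, e, ← Set.image_singleton]
    exact q.isClosedMap _ GrpSchLib.isClosed_unitPt
  haveI : IsClosedImmersion η[G].left := .of_isPreimmersion _ hcl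
  rw [isSeparated_iff]
  exact (GrpSchLib.diagonal_iff_unit @IsClosedImmersion).mpr ‹_›

variable {G H : Over (Spec (CommRingCat.of A))} [GrpObj G] [GrpObj H] [LocallyOfFiniteType G.hom]
  [LocallyOfFiniteType H.hom] (u : G ⟶ H) [IsMonHom u] [QuasiCompact u.left]

/-- The data of the special fibre. -/
theorem special :
    ∃ (G' H' : Over (Spec (CommRingCat.of (IsLocalRing.ResidueField A)))) (_ : GrpObj G') (_ : GrpObj H')
      (_ : LocallyOfFiniteType G'.hom) (_ : LocallyOfFiniteType H'.hom) (u' : G' ⟶ H') (_ : IsMonHom u')
      (_ : QuasiCompact u'.left) (a : G'.left ⟶ G.left) (b : H'.left ⟶ H.left),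
      IsHomeomorph a ∧ IsHomeomorph b ∧ IsClosedImmersion b ∧ IsPullback a u'.left u.left b ∧
      η[H'].left ≫ b = res A ≫ η[H].left := by
  letI : GrpObj ((Over.pullback (res A)).obj G) := Functor.grpObjObj
  letI : GrpObj ((Over.pullback (res A)).obj H) := Functor.grpObjObj
  let u' := (Over.pullback (res A)).map u
  have sq : IsPullback (pullback.fst G.hom (res A)) u'.left u.left (pullback.fst H.hom (res A)) := by
    refine IsPullback.of_bot (v₂₁ := pullback.snd H.hom (res A)) (v₂₂ := H.hom) (h₃₁ := res A) ?_ ?_
      (IsPullback.of_hasPullback H.hom (res A))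
    · rw [show u'.left ≫ pullback.snd H.hom (res A) = pullback.snd G.hom (res A) from pullback.lift_snd _ _ _,
        Over.w u]
      exact IsPullback.of_hasPullback G.hom (res A)
    · exact (pullback.lift_fst _ _ _).symm
  exact ⟨_, _, inferInstance, inferInstance,
    MorphismProperty.pullback_snd G.hom (res A) (inferInstance : LocallyOfFiniteType G.hom),
    MorphismProperty.pullback_snd H.hom (res A) (inferInstance : LocallyOfFiniteType H.hom), u',
    inferInstanceAs (IsMonHom ((Over.pullback (res A)).map u)),
    MorphismProperty.of_isPullback (P := @QuasiCompact) sq ‹_›,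
    pullback.fst G.hom (res A), pullback.fst H.hom (res A), isHomeomorph_fst G, isHomeomorph_fst H,
    MorphismProperty.pullback_fst H.hom (res A) isClosedImmersion_res, sq, etaFst H⟩

/-- A property of the kernel passes to the kernel of the special fibre. -/
theorem kernel_special (P : MorphismProperty Scheme.{u}) [P.IsStableUnderBaseChange]
    {G' H' : Over (Spec (CommRingCat.of (IsLocalRing.ResidueField A)))} [GrpObj H'] (u' : G' ⟶ H')
    (a : G'.left ⟶ G.left) (b : H'.left ⟶ H.left) (sq : IsPullback a u'.left u.left b)
    (hb : η[H'].left ≫ b = res A ≫ η[H].left) (h : P (pullback.snd u.left η[H].left)) :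
    P (pullback.snd u'.left η[H'].left) := by
  have h1 := (IsPullback.of_hasPullback u'.left η[H'].left).flip.paste_vert sq.flip
  rw [hb] at h1
  let m : pullback u'.left η[H'].left ⟶ pullback u.left η[H].left :=
    pullback.lift (pullback.fst _ _ ≫ a) (pullback.snd _ _ ≫ res A) (by rw [Category.assoc]; exact h1.w.symm)
  have h2 : IsPullback (pullback.snd u'.left η[H'].left) m (res A) (pullback.snd u.left η[H].left) := by
    refine IsPullback.of_bot (v₂₁ := pullback.fst u.left η[H].left) (v₂₂ := η[H].left) (h₃₁ := u.left) ?_
      (pullback.lift_snd _ _ _).symm (IsPullback.of_hasPullback u.left η[H].left).flip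
    rw [show m ≫ pullback.fst u.left η[H].left = pullback.fst _ _ ≫ a from pullback.lift_fst _ _ _]
    exact h1
  exact MorphismProperty.of_isPullback h2.flip h

/-- A homomorphism with proper kernel is proper. -/
theorem isProper_of_ker (h : IsProper (pullback.snd u.left η[H].left)) : IsProper u.left := by
  obtain ⟨G', H', _, _, _, _, u', _, _, a, b, ha, hb, hbc, sq, he⟩ := special u
  haveI := FpqcDesc.isProper_descends.{u}
  haveI : IsProper u'.left := GrpHomLib.of_kernel u' @IsProper
    (fun j hj => (inferInstance : IsProper j)) (kernel_special u @IsProper u' a b sq he h)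
  haveI := hbc
  haveI : Surjective a := ⟨ha.surjective⟩
  haveI : UniversallyClosed (a ≫ u.left) := by rw [sq.w]; infer_instance
  haveI := UniversallyClosed.of_comp_surjective a u.left
  haveI : LocallyOfFiniteType (u.left ≫ H.hom) := by rw [Over.w u]; infer_instance
  haveI : LocallyOfFiniteType u.left := locallyOfFiniteType_of_comp u.left H.hom
  haveI : IsSeparated (u.left ≫ H.hom) := by rw [Over.w u]; exact isSeparated_artinian G
  haveI : IsSeparated u.left := IsSeparated.of_comp u.left H.hom
  exact {}

/-- A homomorphism with finite kernel is finite. -/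
theorem isFinite_of_ker (h : IsFinite (pullback.snd u.left η[H].left)) : IsFinite u.left := by
  haveI := h
  haveI := isProper_of_ker u inferInstance
  obtain ⟨G', H', _, _, _, _, u', _, _, a, b, ha, hb, hbc, sq, he⟩ := special u
  haveI := FpqcDesc.isFinite_descends.{u}
  haveI : IsFinite u'.left := GrpHomLib.of_kernel u' @IsFinite
    (fun j hj => (inferInstance : IsFinite j)) (kernel_special u @IsFinite u' a b sq he h)
  haveI : LocallyQuasiFinite u.left := locallyQuasiFinite_iff_finite_preimage_singleton.mpr fun y => by
    obtain ⟨y', rfl⟩ := hb.surjective y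
    refine ((u'.left.finite_preimage_singleton y').image a).subset fun x hx => ?_
    obtain ⟨x', rfl⟩ := ha.surjective x
    refine ⟨x', ?_, rfl⟩
    show u'.left x' = y'
    apply hb.injective
    rw [← Scheme.Hom.comp_apply, ← sq.w, Scheme.Hom.comp_apply]
    exact hx
  rw [IsFinite.iff_isProper_and_locallyQuasiFinite]
  exact ⟨inferInstance, inferInstance⟩

/-- The image is closed and the dimensions add up. -/
theorem isClosed_range_and_dim_eq : IsClosed (Set.range u.left) ∧ topologicalKrullDim G.left =
    topologicalKrullDim (Set.range u.left) + topologicalKrullDim ↥(pullback u.left η[H].left) := by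
  obtain ⟨G', H', _, _, _, _, u', _, _, a, b, ha, hb, hbc, sq, he⟩ := special u
  have hr : Set.range u.left = b '' Set.range u'.left := by
    rw [← Set.range_comp, ← TopCat.coe_comp, ← Scheme.Hom.comp_base, ← sq.w, Scheme.Hom.comp_base, TopCat.coe_comp,
      ha.surjective.range_comp]
  refine ⟨hr ▸ hb.homeomorph.isClosedMap _ (GrpHomLib.isClosed_range u'), ?_⟩
  let pt : ↥(Spec (CommRingCat.of A)) := IsLocalRing.closedPoint A
  haveI : Subsingleton ↥(Spec (CommRingCat.of A)) := inferInstanceAs (Subsingleton (PrimeSpectrum A))
  haveI : IsClosedImmersion η[H'].left := GrpSchLib.isClosedImmersion_unit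
  haveI : IsImmersion η[H].left := by
    haveI : IsImmersion (η[H].left ≫ H.hom) := by
      rw [Over.w η[H]]; exact inferInstanceAs (IsImmersion (𝟙 (Spec (CommRingCat.of A))))
    exact IsImmersion.of_comp η[H].left H.hom
  haveI : IsPreimmersion (pullback.fst u.left η[H].left) :=
    MorphismProperty.pullback_fst _ _ (inferInstance : IsPreimmersion η[H].left)
  haveI : IsClosedImmersion (pullback.fst u'.left η[H'].left) := MorphismProperty.pullback_fst _ _ ‹_›
  have hK : a '' Set.range (pullback.fst u'.left η[H'].left) = Set.range (pullback.fst u.left η[H].left) := by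
    rw [Scheme.Pullback.range_fst, Scheme.Pullback.range_fst]
    ext x
    obtain ⟨x', rfl⟩ := ha.surjective x
    rw [ha.injective.mem_set_image, Set.mem_preimage, Set.mem_preimage, ← Scheme.Hom.comp_apply, sq.w,
      Scheme.Hom.comp_apply]
    constructor
    · rintro ⟨t, ht⟩
      exact ⟨res A t, by rw [← ht, ← Scheme.Hom.comp_apply, ← Scheme.Hom.comp_apply, he]⟩
    · rintro ⟨t, ht⟩
      obtain ⟨t', rfl⟩ := (surjective_res (A := A)).surj t
      refine ⟨t', hb.injective ?_⟩
      rw [← Scheme.Hom.comp_apply, he, Scheme.Hom.comp_apply, ht]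
  have e1 := IsHomeomorph.topologicalKrullDim_eq a ha
  have e3 := IsHomeomorph.topologicalKrullDim_eq _
    ((hb.homeomorph).isEmbedding.homeomorphImage (Set.range u'.left)).isHomeomorph
  have e4 := IsHomeomorph.topologicalKrullDim_eq _
    (((pullback.fst u'.left η[H'].left).isEmbedding.toHomeomorph.trans
      (ha.homeomorph.isEmbedding.homeomorphImage _)).trans
      ((Homeomorph.setCongr hK).trans (pullback.fst u.left η[H].left).isEmbedding.toHomeomorph.symm)).isHomeomorph
  rw [hr, ← e1, GrpHomLib.dim_eq u', e3, e4]
  rfl

end Groth.Agent.GrpHomLib
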